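import Groth.Agent.L15.SubGrp.Image
import Groth.Agent.L25.HopfSub
import Groth.Agent.L25.Bridge.Spec
import Groth.Agent.S3034
import Groth.Agent.S4362
import Mathlib.AlgebraicGeometry.Sites.Fpqc

/-!
A homomorphism from an algebraic group over a field to an affine group scheme factors as a faithfully
flat homomorphism followed by a closed immersion.
-/

set_option autoImplicit false
set_option backward.isDefEq.respectTransparency.types false
set_option linter.style.haveILetI false

universe u

open CategoryTheory CategoryTheory.Limits MonoidalCategory CartesianMonoidalCategory MonObj AlgebraicGeometry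

noncomputable section

namespace Groth.L15.AffFactor

open Groth.L25.Bridge

variable {k : Type u} [Field k] {A : Type u} [CommRing A] [HopfAlgebra k A]

/-- The ring map of a point of `Spec A`. -/
def ψ {A : Type u} [CommRing A] {T : Scheme.{u}} (g : T ⟶ Spec (CommRingCat.of A)) :
    CommRingCat.of A ⟶ Γ(T, ⊤) :=
  (Scheme.ΓSpecIso (CommRingCat.of A)).inv ≫ g.appTop

theorem ψ_comp {A B : Type u} [CommRing A] [CommRing B] (f : B →+* A) {T : Scheme.{u}}
    (g : T ⟶ Spec (CommRingCat.of A)) :
    ψ (g ≫ Spec.map (CommRingCat.ofHom f)) = CommRingCat.ofHom f ≫ ψ g := by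
  rw [ψ, ψ, Scheme.Hom.comp_appTop, ← Category.assoc, ← Category.assoc,
    Scheme.ΓSpecIso_inv_naturality]

theorem ψ_injective {A : Type u} [CommRing A] {T : Scheme.{u}} {g g' : T ⟶ Spec (CommRingCat.of A)}
    (h : ψ g = ψ g') : g = g' :=
  ext_of_isAffine ((cancel_epi _).1 h)

variable {G : Over (Spec (CommRingCat.of k))} [GrpObj G] (u : G ⟶ P k A)

/-- The morphism induced by the inclusion of a subalgebra. -/
abbrev res (B : Subalgebra k A) : (P k A).left ⟶ Spec (CommRingCat.of B) :=
  Spec.map (CommRingCat.ofHom B.val.toRingHom)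

theorem res_over (B : Subalgebra k A) :
    res B ≫ Spec.map (CommRingCat.ofHom (algebraMap k B)) = (P k A).hom :=
  (Spec.map_comp _ _).symm.trans rfl

instance isClosedImmersion_one (B : Subalgebra k A) :
    IsClosedImmersion ((η[P k A] : _ ⟶ P k A).left ≫ res B) := by
  have h : ((η[P k A] : _ ⟶ P k A).left ≫ res B) ≫ Spec.map (CommRingCat.ofHom (algebraMap k B)) =
      𝟙 _ := by
    rw [Category.assoc, res_over, Over.w]
    rfl
  haveI : IsClosedImmersion (((η[P k A] : _ ⟶ P k A).left ≫ res B) ≫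
      Spec.map (CommRingCat.ofHom (algebraMap k B))) := by rw [h]; infer_instance
  exact IsClosedImmersion.of_comp _ (Spec.map (CommRingCat.ofHom (algebraMap k B)))

/-- The inclusion of the kernel of `G ⟶ Spec B`. -/
def kerι (B : Subalgebra k A) :=
  pullback.fst (u.left ≫ res B) ((η[P k A] : _ ⟶ P k A).left ≫ res B)

instance isClosedImmersion_kerι (B : Subalgebra k A) : IsClosedImmersion (kerι u B) := by
  unfold kerι
  infer_instance

theorem ker_mono {B B' : Subalgebra k A} (h : B ≤ B') : (kerι u B).ker ≤ (kerι u B').ker := by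
  have hr : res B' ≫ Spec.map (CommRingCat.ofHom (Subalgebra.inclusion h).toRingHom) = res B :=
    (Spec.map_comp _ _).symm.trans rfl
  let f : pullback (u.left ≫ res B') ((η[P k A] : _ ⟶ P k A).left ≫ res B') ⟶
      pullback (u.left ≫ res B) ((η[P k A] : _ ⟶ P k A).left ≫ res B) :=
    pullback.lift (pullback.fst _ _) (pullback.snd _ _) (by
      have := congrArg (fun m => m ≫ Spec.map (CommRingCat.ofHom (Subalgebra.inclusion h).toRingHom))
        (pullback.condition (f := u.left ≫ res B') (g := (η[P k A] : _ ⟶ P k A).left ≫ res B'))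
      simpa only [Category.assoc, hr] using this)
  have hf : f ≫ kerι u B = kerι u B' := pullback.lift_fst _ _ _
  rw [← hf]
  exact Scheme.Hom.le_ker_comp _ _

/-- A point lies in the kernel of `G ⟶ Spec B`. -/
def InKer (B : Subalgebra k A) {T : Over (Spec (CommRingCat.of k))} (g : T ⟶ G) : Prop :=
  (g ≫ u).left ≫ res B = (1 : T ⟶ P k A).left ≫ res B

theorem inKer_of_ker_le {B B' : Subalgebra k A} (h : (kerι u B').ker ≤ (kerι u B).ker)
    {T : Over (Spec (CommRingCat.of k))} (g : T ⟶ G) (hg : InKer u B g) : InKer u B' g := by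
  have e1 : (1 : T ⟶ P k A).left = (toUnit T).left ≫ (η[P k A] : _ ⟶ P k A).left := by
    rw [Hom.one_def]
    rfl
  let l : T.left ⟶ pullback (u.left ≫ res B) ((η[P k A] : _ ⟶ P k A).left ≫ res B) :=
    pullback.lift g.left (toUnit T).left (by
      rw [← Category.assoc, ← Category.assoc, ← Over.comp_left, ← e1]
      exact hg)
  let m := IsClosedImmersion.lift (kerι u B') (kerι u B) h
  have hm : (l ≫ m) ≫ kerι u B' = g.left := by
    rw [Category.assoc, IsClosedImmersion.lift_fac]
    exact pullback.lift_fst _ _ _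
  let s := (l ≫ m) ≫ pullback.snd (u.left ≫ res B') ((η[P k A] : _ ⟶ P k A).left ≫ res B')
  have hs : s ≫ ((η[P k A] : _ ⟶ P k A).left ≫ res B') = g.left ≫ u.left ≫ res B' := by
    rw [show s ≫ _ = (l ≫ m) ≫ _ from Category.assoc _ _ _, ← pullback.condition, ← Category.assoc]
    exact congrArg (· ≫ _) hm
  have hs' : s = (toUnit T).left := by
    have h1 : s ≫ (η[P k A] : _ ⟶ P k A).left ≫ (P k A).hom = g.left ≫ u.left ≫ (P k A).hom := by
      have := congrArg (fun w => w ≫ Spec.map (CommRingCat.ofHom (algebraMap k B'))) hs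
      simpa only [Category.assoc, res_over] using this
    rw [Over.w, Over.w, Over.w] at h1
    have h2 : (toUnit T).left ≫ (𝟙_ (Over (Spec (CommRingCat.of k)))).hom = T.hom := Over.w _
    exact ((Category.comp_id s).symm.trans h1).trans (h2.symm.trans (Category.comp_id _))
  rw [hs'] at hs
  show (g ≫ u).left ≫ res B' = _
  rw [Over.comp_left, e1, Category.assoc, Category.assoc]
  exact hs.symm

theorem exists_stable [LocallyOfFiniteType G.hom] [QuasiCompact G.hom] :
    ∃ B : Subalgebra k A, B.FG ∧ SGA3.IsHopfSubalgebra k A B ∧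
      ∀ {T : Over (Spec (CommRingCat.of k))} (g : T ⟶ G), InKer u B g → g ≫ u = 1 := by
  classical
  haveI : IsLocallyNoetherian G.left := LocallyOfFiniteType.isLocallyNoetherian G.hom
  haveI : CompactSpace G.left := QuasiCompact.compactSpace_of_compactSpace G.hom
  haveI : IsNoetherian G.left := { }
  haveI := Groth.Agent.S4362.result G.left
  let S : Set G.left.IdealSheafData :=
    {I | ∃ B : Subalgebra k A, B.FG ∧ SGA3.IsHopfSubalgebra k A B ∧ (kerι u B).ker = I}
  have hne : S.Nonempty := by
    obtain ⟨B, -, hB, hB'⟩ := Groth.L25.HopfSub.exists_fg k A ∅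
    exact ⟨_, B, hB, hB', rfl⟩
  obtain ⟨_, ⟨B, hfg, hB, rfl⟩, hmax⟩ := (wellFounded_gt (α := G.left.IdealSheafData)).has_min S hne
  refine ⟨B, hfg, hB, fun {T} g hg => ?_⟩
  obtain ⟨s, hs⟩ := hfg
  refine Over.OverMorphism.ext (ψ_injective ?_)
  refine CommRingCat.hom_ext (RingHom.ext fun a => ?_)
  obtain ⟨B', hsB', hfg', hB'⟩ := Groth.L25.HopfSub.exists_fg k A (insert a s)
  have hle : B ≤ B' := by
    rw [← hs]
    refine Algebra.adjoin_le fun x hx => hsB' ?_
    simp only [Finset.coe_insert, Set.mem_insert_iff]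
    exact Or.inr hx
  have heq : (kerι u B').ker ≤ (kerι u B).ker := by
    rcases (ker_mono u hle).eq_or_lt with h | h
    · exact h.ge
    · exact absurd h (hmax _ ⟨B', hfg', hB', rfl⟩)
  have h := congrArg ψ (inKer_of_ker_le u heq g hg)
  have ha : a ∈ B' := hsB' (by simp)
  have h' := congrArg (fun w => w.hom (⟨a, ha⟩ : B')) (((ψ_comp B'.val.toRingHom _).symm.trans h).trans
    (ψ_comp B'.val.toRingHom _))
  exact h'

theorem exists_factor [LocallyOfFiniteType G.hom] [QuasiCompact G.hom] [IsMonHom u] :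
    ∃ (C : Over (Spec (CommRingCat.of k))) (_ : GrpObj C) (p : G ⟶ C) (q : C ⟶ P k A),
      IsMonHom p ∧ IsMonHom q ∧ p ≫ q = u ∧ Surjective p.left ∧ Flat p.left ∧ IsClosedImmersion q.left := by
  obtain ⟨B, hfg, hB, hker⟩ := exists_stable u
  letI := Groth.L25.HopfSub.hopfAlgebra hB
  let π : P k A ⟶ P k B := ((hopfSpec (CommRingCat.of k)).map
    (X := Opposite.op (CommHopfAlgCat.of k A)) (Y := Opposite.op (CommHopfAlgCat.of k B))
    (CommHopfAlgCat.ofHom (Groth.L25.HopfSub.inclBialg hB)).op).hom.hom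
  haveI : IsMonHom π := ((hopfSpec (CommRingCat.of k)).map
    (X := Opposite.op (CommHopfAlgCat.of k A)) (Y := Opposite.op (CommHopfAlgCat.of k B))
    (CommHopfAlgCat.ofHom (Groth.L25.HopfSub.inclBialg hB)).op).hom.isMonHom_hom
  have hπ : π.left = res B := rfl
  haveI : LocallyOfFiniteType (P k B).hom := by
    show LocallyOfFiniteType (Spec.map (CommRingCat.ofHom (algebraMap k B)))
    rw [HasRingHomProperty.Spec_iff (P := @LocallyOfFiniteType)]
    exact RingHom.finiteType_algebraMap.2 (B.fg_iff_finiteType.1 hfg)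
  let v : G ⟶ P k B := u ≫ π
  haveI : IsSeparated (P k B).hom := inferInstanceAs (IsSeparated (Spec.map _))
  haveI : QuasiCompact v.left := by
    haveI : QuasiCompact (v.left ≫ (P k B).hom) := by rw [Over.w]; infer_instance
    exact QuasiCompact.of_comp v.left (P k B).hom
  haveI : IsIntegral (𝟙_ (Over (Spec (CommRingCat.of k)))).left :=
    inferInstanceAs (IsIntegral (Spec (CommRingCat.of k)))
  haveI : Subsingleton (𝟙_ (Over (Spec (CommRingCat.of k)))).left :=
    inferInstanceAs (Subsingleton (Spec (CommRingCat.of k)))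
  obtain ⟨C, gC, p, i, hp, hi, hpi, hfl, hsurj, hlfp, hci⟩ :=
    Groth.Agent.S3034.result k G (P k B) v inferInstance
  have hkill : ∀ {T : Over (Spec (CommRingCat.of k))} (a b : T ⟶ G), a ≫ p = b ≫ p → a ≫ u = b ≫ u := by
    intro T a b hab
    have h0 : (a⁻¹ * b) ≫ p = 1 := by
      rw [MonObj.mul_comp, GrpObj.inv_comp, hab, inv_mul_cancel]
    have h1 : InKer u B (a⁻¹ * b) := by
      show ((a⁻¹ * b) ≫ u).left ≫ res B = _
      change (((a⁻¹ * b) ≫ u) ≫ π).left = ((1 : T ⟶ P k A) ≫ π).left
      refine congrArg (fun w : T ⟶ P k B => w.left) ?_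
      rw [Category.assoc, show u ≫ π = p ≫ i from hpi.symm, reassoc_of% h0, MonObj.one_comp,
        MonObj.one_comp]
    have h2 := hker _ h1
    rw [MonObj.mul_comp, GrpObj.inv_comp, inv_mul_eq_one] at h2
    exact h2
  have hw : ∀ {Z : Scheme.{u}} (g₁ g₂ : Z ⟶ G.left), g₁ ≫ p.left = g₂ ≫ p.left →
      g₁ ≫ u.left = g₂ ≫ u.left := by
    intro Z g₁ g₂ hg
    let T : Over (Spec (CommRingCat.of k)) := Over.mk (g₁ ≫ G.hom)
    let a : T ⟶ G := Over.homMk g₁ rfl
    let b : T ⟶ G := Over.homMk g₂ (by
      show g₂ ≫ G.hom = g₁ ≫ G.hom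
      rw [← Over.w p, reassoc_of% hg])
    exact congrArg (fun w => w.left) (hkill a b (Over.OverMorphism.ext hg))
  let q0 : C.left ⟶ (P k A).left := EffectiveEpi.desc p.left u.left fun g₁ g₂ hg => hw g₁ g₂ hg
  have hq0 : p.left ≫ q0 = u.left := EffectiveEpi.fac p.left u.left _
  have hep : Epi p.left := inferInstance
  let q : C ⟶ P k A := Over.homMk q0 (by
    rw [← cancel_epi p.left, reassoc_of% hq0, Over.w, Over.w])
  have hpq : p ≫ q = u := Over.OverMorphism.ext hq0
  haveI : Epi p := Over.epi_of_epi_left p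
  have hqπ : q ≫ π = i := by rw [← cancel_epi p, reassoc_of% hpq, hpi]
  haveI : IsClosedImmersion (q.left ≫ π.left) := by rw [← Over.comp_left, hqπ]; exact hci
  haveI : IsSeparated π.left := inferInstanceAs (IsSeparated (Spec.map _))
  haveI : IsClosedImmersion q.left := IsClosedImmersion.of_comp q.left π.left
  haveI : Epi (p ⊗ₘ p) := by
    haveI h1 : Epi (p ▷ G) := by
      have sq := Groth.L15.SubGrp.isPullback_whiskerRight p G
      haveI : Flat (p ▷ G).left := MorphismProperty.of_isPullback sq hfl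
      haveI : Surjective (p ▷ G).left := MorphismProperty.of_isPullback sq hsurj
      haveI : LocallyOfFinitePresentation (p ▷ G).left := MorphismProperty.of_isPullback sq hlfp
      exact Over.epi_of_epi_left _
    haveI h2 : Epi (C ◁ p) := by
      have sq := Groth.L15.SubGrp.isPullback_whiskerLeft p C
      haveI : Flat (C ◁ p).left := MorphismProperty.of_isPullback sq hfl
      haveI : Surjective (C ◁ p).left := MorphismProperty.of_isPullback sq hsurj
      haveI : LocallyOfFinitePresentation (C ◁ p).left := MorphismProperty.of_isPullback sq hlfp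
      exact Over.epi_of_epi_left _
    rw [MonoidalCategory.tensorHom_def]
    infer_instance
  refine ⟨C, gC, p, q, hp, ⟨?_, ?_⟩, hpq, hsurj, hfl, inferInstance⟩
  · rw [← IsMonHom.one_hom p, Category.assoc, hpq, IsMonHom.one_hom]
  · rw [← cancel_epi (p ⊗ₘ p), ← reassoc_of% (IsMonHom.mul_hom p), hpq, IsMonHom.mul_hom,
      tensorHom_comp_tensorHom_assoc, hpq]

end Groth.L15.AffFactor
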